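import Groth.Agent.Genus0Family.Trivial
import Groth.Agent.CurveEmbed.Conic
import Groth.Agent.S7834
import Groth.Prelude.Def_ModFun

/-!
# Curves of genus zero as a moduli problem
-/

set_option autoImplicit false
set_option linter.style.haveILetI false
set_option linter.unusedSectionVars false
set_option backward.isDefEq.respectTransparency false
set_option backward.isDefEq.respectTransparency.types false
set_option maxHeartbeats 1000000

universe u

open CategoryTheory CategoryTheory.Limits AlgebraicGeometry TopologicalSpace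

noncomputable section

namespace Groth.Agent.Genus0Family

open Groth.Agent Groth.Agent.H9Misc.VeryAmpleFibre

/-- Projective space commutes with base change between affine schemes. -/
theorem exists_isPullback_projSpace (n : ℕ) {A B : Type u} [CommRing A] [CommRing B]
    (h : Spec (CommRingCat.of B) ⟶ Spec (CommRingCat.of A)) :
    ∃ g, IsPullback g (CohB1.ProjSpace.toSpec n B) (CohB1.ProjSpace.toSpec n A) h := by
  obtain ⟨a, ha, -⟩ := SeesawX.PnSpec.exists_iso (n := n) (R := A)
  obtain ⟨b, hb, -⟩ := SeesawX.PnSpec.exists_iso (n := n) (R := B)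
  exact ⟨b.inv ≫ bP h ≫ a.hom, (isPullback_bP (n := n) h).of_iso b a (Iso.refl _) (Iso.refl _)
    (b.hom_inv_id_assoc _).symm ((Category.comp_id _).trans hb.symm)
    ((Category.comp_id _).trans ha.symm) ((Category.comp_id _).trans (Category.id_comp _).symm)⟩

/-- Pullbacks of curves of genus `g` are curves of genus `g`. -/
theorem isCurveOfGenus_of_isPullback {g : ℕ} {C T C' T' : Scheme.{u}} {p : C ⟶ T} {p' : C' ⟶ T'}
    {a : C' ⟶ C} {b : T' ⟶ T} (sq : IsPullback a p' p b) (h : ModFun.IsCurveOfGenus g p) :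
    ModFun.IsCurveOfGenus g p' := by
  obtain ⟨h1, h2, h3, h4⟩ := h
  exact ⟨MorphismProperty.of_isPullback sq h1, MorphismProperty.of_isPullback sq h2,
    MorphismProperty.of_isPullback (P := @GeometricallyIrreducible) sq h3, fun Ω _ _ t X i q hX =>
      h4 Ω (t ≫ b) X (i ≫ a) q (hX.paste_horiz sq)⟩

/-- The projective line over a field is a curve of genus zero. -/
theorem isCurveOfGenus_line (k : Type u) [Field k] :
    ModFun.IsCurveOfGenus 0 (CohB1.ProjSpace.toSpec 1 k) := by
  refine ⟨CurveEmbed.smooth_toSpec 1 k, PnCoh.Chow.isProper_toSpec 1 k,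
    ⟨fun L _ t Y fst snd hpb => ?_⟩, fun Ω _ _ t X i q hX => ?_⟩
  · obtain ⟨g, hg⟩ := exists_isPullback_projSpace 1 (B := L) t
    haveI : IsIntegral (CohB1.ProjSpace 1 L) := H23.PnChart.isIntegral_projSpace 1 L
    exact (hpb.isoIsPullback _ _ hg).hom.homeomorph.symm.surjective.irreducibleSpace
      (hpb.isoIsPullback _ _ hg).hom.homeomorph.symm.continuous
  · obtain ⟨g, hg⟩ := exists_isPullback_projSpace 1 (B := Ω) t
    let e := hX.isoIsPullback _ _ hg
    have he : e.hom ≫ CohB1.ProjSpace.toSpec 1 Ω = q := hX.isoIsPullback_hom_snd _ _ hg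
    let P := CohB1.ProjSpace 1 Ω
    haveI : IsProper (CohB1.ProjSpace.toSpec 1 Ω) := PnCoh.Chow.isProper_toSpec 1 Ω
    haveI : CompactSpace ↥P := QuasiCompact.compactSpace_of_compactSpace (CohB1.ProjSpace.toSpec 1 Ω)
    haveI : P.IsSeparated := ⟨by
      rw [← Limits.terminal.comp_from (CohB1.ProjSpace.toSpec 1 Ω)]; infer_instance⟩
    refine ⟨e.hom.homeomorph.isHomeomorph.topologicalKrullDim_eq.trans (by simpa using S10829.result Ω 1), ?_⟩
    letI : X.Over (Spec (CommRingCat.of Ω)) := ⟨q⟩
    letI : P.Over (Spec (CommRingCat.of Ω)) := ⟨CohB1.ProjSpace.toSpec 1 Ω⟩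
    have hpb : IsPullback e.hom (X ↘ Spec (CommRingCat.of Ω))
        (P ↘ Spec (CommRingCat.of Ω)) (Spec.map (CommRingCat.ofHom (algebraMap Ω Ω))) := by
      haveI : IsIso (Spec.map (CommRingCat.ofHom (algebraMap Ω Ω))) := by
        rw [show CommRingCat.ofHom (algebraMap Ω Ω) = 𝟙 (CommRingCat.of Ω) from rfl]
        infer_instance
      refine IsPullback.of_horiz_isIso ⟨?_⟩
      rw [show CommRingCat.ofHom (algebraMap Ω Ω) = 𝟙 (CommRingCat.of Ω) from rfl, Spec.map_id, Category.comp_id]
      exact he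
    show Module.finrank Ω (Coh.HH X (Coh.structureModule X) 1) = 0
    rw [CurveBC.finrank_hh_unit Ω Ω e.hom hpb 1]
    haveI : Subsingleton (Coh.HH P (Coh.structureModule P) (0 + 1)) :=
      PnCoh.subsingleton_HH_structureModule (ι := Fin (1 + 1)) (R := Ω) (PnCoh.isQCoh_structureModule _) 0
    exact Module.finrank_zero_of_subsingleton (R := Ω) (M := Coh.HH P (Coh.structureModule P) (0 + 1))

/-- Geometric fibres of curves of genus zero. -/
theorem geometric_fibre {C T : Scheme.{u}} (p : C ⟶ T) (h : ModFun.IsCurveOfGenus 0 p)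
    (Ω : Type u) [Field Ω] [IsAlgClosed Ω] (t : Spec (CommRingCat.of Ω) ⟶ T) :
    IsIntegral (pullback p t) ∧ topologicalKrullDim ↥(pullback p t) = 1 ∧
      @Curv2.genus Ω _ (pullback p t) ⟨pullback.snd p t⟩ = 0 := by
  obtain ⟨h1, h2, h3, h4⟩ := h
  haveI : IsProper (pullback.snd p t) := MorphismProperty.pullback_snd p t h2
  haveI : Smooth (pullback.snd p t) := MorphismProperty.pullback_snd p t h1
  haveI : GeometricallyIrreducible (pullback.snd p t) :=
    MorphismProperty.pullback_snd (P := @GeometricallyIrreducible) p t h3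
  haveI : Subsingleton ↥(Spec (CommRingCat.of Ω)) := inferInstanceAs (Subsingleton (PrimeSpectrum Ω))
  haveI : IrreducibleSpace ↥(pullback p t) :=
    GeometricallyIrreducible.geometrically_irreducibleSpace (f := p) _ _ _ (IsPullback.of_hasPullback p t)
  haveI : CompactSpace ↥(pullback p t) := QuasiCompact.compactSpace_of_compactSpace (pullback.snd p t)
  exact ⟨CurveCohLib.isIntegral_of_smooth_connected (k := Ω) (pullback.snd p t),
    h4 Ω t _ _ _ (IsPullback.of_hasPullback p t)⟩

/-- Over an algebraically closed field a curve of genus zero is the projective line. -/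
theorem exists_iso_line_of_algClosed {Ω : Type u} [Field Ω] [IsAlgClosed Ω] {X : Scheme.{u}}
    (p : X ⟶ Spec (CommRingCat.of Ω)) (h : ModFun.IsCurveOfGenus 0 p) :
    ∃ e : X ≅ CohB1.ProjSpace 1 Ω, e.hom ≫ CohB1.ProjSpace.toSpec 1 Ω = p := by
  obtain ⟨h1, h2, h3, h4⟩ := h
  haveI := h2; haveI := h1; haveI := h3
  letI : X.Over (Spec (CommRingCat.of Ω)) := ⟨p⟩
  haveI : GeometricallyConnected p := ⟨fun L _ t Y fst snd hpb => by
    haveI := GeometricallyIrreducible.geometrically_irreducibleSpace (f := p) _ _ _ hpb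
    infer_instance⟩
  haveI : GeometricallyIntegral (X ↘ Spec (CommRingCat.of Ω)) := PicTangent.JacDeg.geometricallyIntegral p
  haveI : IsProper (X ↘ Spec (CommRingCat.of Ω)) := h2
  obtain ⟨hd, hg⟩ := h4 Ω (𝟙 _) X (𝟙 _) p IsPullback.of_id_fst
  exact S7834.result Ω X hd hg

end Groth.Agent.Genus0Family
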