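import Groth.Agent.H9Misc.VeryAmpleFibre
import Groth.Agent.FlatMisc.FibreIsoLocus

/-!
# Spreading out an isomorphism of a fibre with projective space
-/

set_option autoImplicit false
set_option linter.style.haveILetI false
set_option linter.unusedSectionVars false
set_option maxHeartbeats 1000000
set_option backward.isDefEq.respectTransparency false
set_option backward.isDefEq.respectTransparency.types false

universe u

open CategoryTheory Limits AlgebraicGeometry TopologicalSpace Opposite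

noncomputable section

namespace Groth.Agent.Genus0Family

open Groth.Agent Groth.Agent.H23 Groth.Agent.SeesawX.PnSpec Groth.Agent.H9Misc Groth.Agent.H9Misc.VeryAmpleFibre

variable {X Y : Scheme.{u}} (f : X ⟶ Y) (L : X.Modules)

/-- If a module without first cohomology on the fibres identifies one fibre with projective space, then the
family is a projective space near that fibre. -/
theorem exists_nhd_projSpace {N : ℕ} [IsProper f] [Flat f] [IsLocallyNoetherian Y] (hL : PicF.IsInvertible L)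
    (h1 : ∀ y : Y, Subsingleton (CohIII.fiberH f L y 1)) (y : Y)
    (hva : ∃ iy : f.fiber y ⟶ CohB1.ProjSpaceOver N (Spec (Y.residueField y)), IsIso iy ∧
      iy ≫ pB N _ = f.fiberToSpecResidueField y ∧
      Nonempty ((Scheme.Modules.pullback (f.fiberι y)).obj L ≅
        (Scheme.Modules.pullback iy).obj (Twist.twistOver N (Spec (Y.residueField y)) 1))) :
    ∃ V : Y.Opens, y ∈ V ∧ IsAffineOpen V ∧
      ∃ e : ((f ⁻¹ᵁ V : X.Opens) : Scheme.{u}) ≅ CohB1.ProjSpaceOver N (V : Scheme.{u}),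
        e.hom ≫ pB N _ = f ∣_ V := by
  haveI : IsLocallyNoetherian X := LocallyOfFiniteType.isLocallyNoetherian f
  have hcoh : Coh.IsCoh L := CurveDeg.isCoh_of_isInvertible hL
  obtain ⟨iy, hiy, hiyB, ⟨eL⟩⟩ := hva
  let ry : f.fiber y ⟶ CohB1.ProjSpace N Zu := iy ≫ pZ N _
  let O1 := Twist.twistProjSpace N Zu.{u} 1
  let τy : (Scheme.Modules.pullback ry).obj O1 ≅ (Scheme.Modules.pullback (f.fiberι y)).obj L :=
    ((Scheme.Modules.pullbackComp iy (pZ N _)).app O1).symm ≪≫ eL.symm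
  let c : Fin (N + 1) → ProjUP.Γm ((Scheme.Modules.pullback ry).obj O1) :=
    fun i => ProjUP.pullSec ry O1 (ProjUP.coord N Zu i)
  let t : Fin (N + 1) → ProjUP.Γm ((Scheme.Modules.pullback (f.fiberι y)).obj L) := fun i => τy.hom.app ⊤ (c i)
  choose W hyW hle s hs using fun i => FibreLift.exists_lift f L hcoh.1 (KZ.LFRes.isFP_of_isCoh hcoh)
    (Seesaw.isFlatOver_of_isInvertible f hL) h1 y (t i)
  obtain ⟨_, ⟨V₀, hV₀, rfl⟩, hyV₀, hV₀W⟩ :=
    Y.isBasis_affineOpens.exists_subset_of_mem_open (a := y) (u := (⋂ i, (W i : Set Y)))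
      (Set.mem_iInter.2 hyW) (isOpen_iInter_of_finite fun i => (W i).2)
  have hVW : ∀ i, V₀ ≤ W i := fun i x hx => Set.mem_iInter.1 (hV₀W hx) i
  let O₀ : X.Opens := f ⁻¹ᵁ V₀
  let M := (Scheme.Modules.pullback O₀.ι).obj L
  let S : Fin (N + 1) → ProjUP.Γm M := fun i => QCoh.pullSec O₀.ι L (V := O₀) (W := ⊤) O₀.ι_preimage_self.ge
    (L.presheaf.map (homOfLE (f.preimage_mono (hVW i))).op (s i))
  let gy := fibIn f (V := V₀) hyV₀
  have hgy : gy ≫ O₀.ι = f.fiberι y := IsOpenImmersion.lift_fac _ _ _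
  let e0 : (Scheme.Modules.pullback gy).obj M ≅ (Scheme.Modules.pullback (f.fiberι y)).obj L :=
    (Scheme.Modules.pullbackComp gy O₀.ι).app L ≪≫ (Scheme.Modules.pullbackCongr hgy).app L
  have hc0 : Carry e0 (fun i => ProjUP.pullSec gy M (S i)) t := fun i => by
    show ((Scheme.Modules.pullbackCongr hgy).hom.app L).app ⊤
      (((Scheme.Modules.pullbackComp gy O₀.ι).hom.app L).app ⊤ (ProjUP.pullSec gy M (S i))) = t i
    rw [pullSec_eq]
    refine (congrArg (((Scheme.Modules.pullbackCongr hgy).hom.app L).app ⊤) (ExistEasy.pullSec_comp gy O₀.ι L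
      (W := ⊤) (U := ⊤) (V := O₀) O₀.ι_preimage_self.ge le_rfl _)).trans ?_
    refine (ExistEasy.pullSec_congr hgy L _ _).trans ?_
    refine (ExistEasy.pullSec_res (f.fiberι y) L (f.preimage_mono (hVW i)) le_rfl (hle i) _ (s i)).symm.trans ?_
    rw [show homOfLE (le_rfl : (⊤ : (f.fiber y).Opens) ≤ ⊤) = 𝟙 _ from rfl, op_id]
    exact (QCoh.map_id' _ _).trans (hs i)
  let τ0 : (Scheme.Modules.pullback ry).obj O1 ≅ (Scheme.Modules.pullback gy).obj M := τy ≪≫ e0.symm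
  have hτ0 : Carry τ0 c (fun i => ProjUP.pullSec gy M (S i)) := Carry.trans (fun _ => rfl) hc0.symm
  have hM : PicF.IsInvertible M := PicClLib.isInvertible_pullback _ hL
  let G : ((O₀ : X.Opens) : Scheme.{u}).Opens := ⨆ i, TrivBasic.locus (S i)
  have hfib : ∀ z : f.fiber y, gy z ∈ G := fun z => by
    obtain ⟨j, hj⟩ := PnCoh.Chow.cov_coord (N := N) Zu.{u} (ry z)
    refine Opens.mem_iSup.2 ⟨j.down, ?_⟩
    have h2 := (AmpleEmbed.preimage_chart ry τ0 j.down (hτ0 j.down)).le (show z ∈ ry ⁻¹ᵁ _ from hj)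
    have h3 := TrivBasic.locus_pullElt hM gy (S j.down)
    exact h3.le h2
  obtain ⟨U₁, hyU₁, hU₁⟩ := Approx.FibreProper.exists_nhd_preimage_le f f.isClosedMap y (O₀.ι ''ᵁ G) fun x hx => by
    obtain ⟨z, rfl⟩ : x ∈ Set.range (f.fiberι y) := by rw [Scheme.Hom.range_fiberι]; exact hx
    exact ⟨gy z, hfib z, by show (gy ≫ O₀.ι) z = _; rw [hgy]⟩
  obtain ⟨V₁, hV₁, hyV₁, hV₁U⟩ := exists_affine_nhd y (U₁ ⊓ V₀) ⟨hyU₁, hyV₀⟩
  have hV₁0 : V₁ ≤ V₀ := fun x hx => (hV₁U hx).2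
  let O₁ : X.Opens := f ⁻¹ᵁ V₁
  let k := X.homOfLE (f.preimage_mono hV₁0)
  let M₁ := (Scheme.Modules.pullback k).obj M
  let S₁ : Fin (N + 1) → ProjUP.Γm M₁ := fun i => ProjUP.pullSec k M (S i)
  have hS₁ : ProjUP.GeneratedBy M₁ S₁ := AVAmple.generatedBy_of_locus _ fun x => by
    obtain ⟨x', hx', hxx⟩ := hU₁ (show (O₁.ι x : X) ∈ f ⁻¹ᵁ U₁ from (hV₁U x.2).1)
    obtain rfl : x' = k x := O₀.ι.isOpenEmbedding.injective (by
      show O₀.ι x' = (k ≫ O₀.ι) x
      rw [Scheme.homOfLE_ι]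
      exact hxx)
    obtain ⟨i, hi⟩ := Opens.mem_iSup.1 hx'
    exact ⟨i, (TrivBasic.locus_pullElt hM k (S i)).ge hi⟩
  obtain ⟨r, -, τr, hτr⟩ := S3572.result N (specULiftZIsTerminal.from _) M₁
    (PicClLib.isInvertible_pullback _ hM) S₁ hS₁
  have hcr : Carry τr (fun i => ProjUP.pullSec r O1 (ProjUP.coord N Zu i)) S₁ := hτr
  let g₁ := fibIn f (V := V₁) hyV₁
  have hg₁ : g₁ ≫ k = gy := by
    rw [← cancel_mono O₀.ι, Category.assoc, Scheme.homOfLE_ι, IsOpenImmersion.lift_fac, hgy]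
  have hr : g₁ ≫ r = ry := by
    let τ1 : (Scheme.Modules.pullback (g₁ ≫ r)).obj O1 ≅ (Scheme.Modules.pullback ry).obj O1 :=
      ((Scheme.Modules.pullbackComp g₁ r).app O1).symm ≪≫ (Scheme.Modules.pullback g₁).mapIso τr ≪≫
        (Scheme.Modules.pullbackComp g₁ k).app M ≪≫ (Scheme.Modules.pullbackCongr hg₁).app M ≪≫ τ0.symm
    refine S3573.result N _ _ (specULiftZIsTerminal.hom_ext _ _) τ1 ?_
    exact ((carry_comp g₁ r O1 _).symm.trans ((hcr.pull g₁).trans ((carry_comp g₁ k M S).trans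
      ((carry_congr hg₁ M S).trans hτ0.symm))))
  haveI : IsProper (CohB1.ProjSpace.toSpec N Zu.{u}) := PnCoh.Chow.isProper_toSpec N _
  let i₁ : (O₁ : Scheme.{u}) ⟶ CohB1.ProjSpaceOver N (V₁ : Scheme.{u}) := toP r (f ∣_ V₁)
  have hi₁ : i₁ ≫ pB N (V₁ : Scheme.{u}) = f ∣_ V₁ := pullback.lift_snd _ _ _
  have hiy' : toP (g₁ ≫ r) (f.fiberToSpecResidueField y) = iy := by
    refine pullback.hom_ext ?_ ?_
    · rw [pullback.lift_fst, hr]
    · rw [pullback.lift_snd]; exact hiyB.symm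
  haveI : IsProper (f ∣_ V₁) := MorphismProperty.of_isPullback (isPullback_morphismRestrict f V₁).flip ‹IsProper f›
  haveI : IsLocallyNoetherian (V₁ : Scheme.{u}) := inferInstance
  haveI : LocallyOfFinitePresentation (f ∣_ V₁) :=
    LocallyOfFinitePresentation.iff_locallyOfFiniteType.2 inferInstance
  haveI : Flat (f ∣_ V₁) := MorphismProperty.of_isPullback (isPullback_morphismRestrict f V₁).flip ‹Flat f›
  haveI : IsProper (pB N (V₁ : Scheme.{u})) := MorphismProperty.pullback_snd _ _ ‹_›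
  let G : Over (V₁ : Scheme.{u}) := Over.mk (f ∣_ V₁)
  let H : Over (V₁ : Scheme.{u}) := Over.mk (pB N (V₁ : Scheme.{u}))
  let w : G ⟶ H := Over.homMk i₁ hi₁
  haveI : IsProper G.hom := ‹IsProper (f ∣_ V₁)›
  haveI : IsProper H.hom := ‹IsProper (pB N (V₁ : Scheme.{u}))›
  haveI : LocallyOfFinitePresentation G.hom := ‹LocallyOfFinitePresentation (f ∣_ V₁)›
  haveI : Flat G.hom := ‹Flat (f ∣_ V₁)›
  let y₁ : (V₁ : Scheme.{u}) := ⟨y, hyV₁⟩
  let ρ : Spec ((V₁ : Scheme.{u}).residueField y₁) ⟶ Spec (Y.residueField y) :=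
    Spec.map (V₁.ι.residueFieldMap y₁)
  have hρ : ρ ≫ ptIn (V := V₁) hyV₁ = (V₁ : Scheme.{u}).fromSpecResidueField y₁ := by
    rw [← cancel_mono V₁.ι, Category.assoc, IsOpenImmersion.lift_fac]
    exact Scheme.Hom.SpecMap_residueFieldMap_fromSpecResidueField V₁.ι y₁
  let z : (pB N (V₁ : Scheme.{u})).fiber y₁ ⟶ CohB1.ProjSpaceOver N (Spec (Y.residueField y)) :=
    toP ((pB N (V₁ : Scheme.{u})).fiberι y₁ ≫ pZ N _) ((pB N (V₁ : Scheme.{u})).fiberToSpecResidueField y₁ ≫ ρ)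
  have hz : z ≫ bP (n := N) (ptIn (V := V₁) hyV₁) = GrpSchLib.HomFibre.incl H y₁ := by
    refine pullback.hom_ext ?_ ?_
    · simp only [z, Category.assoc, pullback.lift_fst]
      rfl
    · simp only [z, Category.assoc, pullback.lift_snd, pullback.lift_snd_assoc, hρ]
      exact (Scheme.Hom.fiber_fac _ _).symm
  have sq := isPullback_toP r (f ∣_ V₁) (isPullback_fibIn f hyV₁)
  rw [hiy'] at sq
  have hsq : IsPullback (GrpSchLib.HomFibre.incl G y₁) (GrpSchLib.HomFibre.fib w y₁).left i₁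
      (z ≫ bP (n := N) (ptIn (V := V₁) hyV₁)) := by
    rw [hz]
    exact GrpSchLib.HomFibre.map_isPullback w _
  let l := sq.lift (GrpSchLib.HomFibre.incl G y₁) ((GrpSchLib.HomFibre.fib w y₁).left ≫ z)
    (by rw [Category.assoc]; exact hsq.w)
  haveI : IsIso (GrpSchLib.HomFibre.fib w y₁).left :=
    (IsPullback.of_right (h₁₁ := l) (by rw [sq.lift_fst]; exact hsq) (sq.lift_snd _ _ _)
      sq).isIso_snd_of_isIso
  obtain ⟨W, hyW, hW⟩ := FibreIsoLocus.exists_nhd w y₁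
  haveI : IsIso (i₁ ∣_ (pB N (V₁ : Scheme.{u}) ⁻¹ᵁ W)) := hW
  obtain ⟨V, hV, hyV, hVW⟩ := exists_affine_nhd y (V₁.ι ''ᵁ W) ⟨y₁, hyW, rfl⟩
  have hV1 : V ≤ V₁ := fun x hx => by
    obtain ⟨x', -, rfl⟩ := hVW hx
    exact x'.2
  let k₂ := X.homOfLE (f.preimage_mono hV1)
  have sq₂ := isPullback_toP r (f ∣_ V₁) (isPullback_restrict_homOfLE f hV1)
  let E : (CohB1.ProjSpaceOver N (V₁ : Scheme.{u})).Opens := pB N _ ⁻¹ᵁ W
  let b := bP (n := N) (Y.homOfLE hV1)
  let b' := IsOpenImmersion.lift E.ι b (by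
    rw [Scheme.Opens.range_ι]
    rintro _ ⟨t, rfl⟩
    show pB N _ (b t) ∈ W
    rw [← Scheme.Hom.comp_apply, show b ≫ pB N _ = pB N _ ≫ Y.homOfLE hV1 from pullback.lift_snd _ _ _,
      Scheme.Hom.comp_apply]
    obtain ⟨x', hx', hx2⟩ := hVW (pB N (V : Scheme.{u}) t).2
    obtain rfl : x' = Y.homOfLE hV1 (pB N (V : Scheme.{u}) t) := V₁.ι.isOpenEmbedding.injective (by
      show V₁.ι x' = (Y.homOfLE hV1 ≫ V₁.ι) (pB N (V : Scheme.{u}) t)
      rw [Scheme.homOfLE_ι]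
      exact hx2)
    exact hx')
  haveI : IsIso (toP (k₂ ≫ r) (f ∣_ V)) := by
    have hR := (isPullback_morphismRestrict i₁ E).flip
    have h3 : IsPullback k₂ (toP (k₂ ≫ r) (f ∣_ V)) i₁ (b' ≫ E.ι) := by
      rw [IsOpenImmersion.lift_fac]; exact sq₂
    let m := hR.lift k₂ (toP (k₂ ≫ r) (f ∣_ V) ≫ b') (by rw [Category.assoc]; exact h3.w)
    exact (IsPullback.of_right (h₁₁ := m) (by rw [hR.lift_fst]; exact h3) (hR.lift_snd _ _ _) hR).isIso_snd_of_isIso
  exact ⟨V, hyV, hV, asIso (toP (k₂ ≫ r) (f ∣_ V)), pullback.lift_snd _ _ _⟩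

end Groth.Agent.Genus0Family
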