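import Groth.Agent.Genus0Family.Fibre
import Groth.Agent.Genus0Family.Spread

/-!
# Families of genus zero curves with a section are locally trivial
-/

set_option autoImplicit false
set_option linter.style.haveILetI false
set_option linter.unusedSectionVars false
set_option backward.isDefEq.respectTransparency false
set_option backward.isDefEq.respectTransparency.types false
set_option maxHeartbeats 1000000

universe u

open CategoryTheory CategoryTheory.Limits AlgebraicGeometry TopologicalSpace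

noncomputable section

namespace Groth.Agent.Genus0Family

open Groth.Agent Groth.Agent.H9Misc.VeryAmpleFibre

/-- A family of genus zero curves with a section is a projective line near every point. -/
theorem exists_local_iso {X S : Scheme.{u}} (f : X ⟶ S) [Smooth f] [IsProper f] [IsLocallyNoetherian S]
    (hfib : ∀ (K : Type u) [Field K] [IsAlgClosed K] (x : Spec (CommRingCat.of K) ⟶ S),
      IsIntegral (pullback f x) ∧ topologicalKrullDim ↥(pullback f x) = 1 ∧
        @Curv2.genus K _ (pullback f x) ⟨pullback.snd f x⟩ = 0)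
    (σ : S ⟶ X) (hσ : σ ≫ f = 𝟙 S) (s : S) :
    ∃ (R : Type u) (_ : CommRing R) (i : Spec (CommRingCat.of R) ⟶ S), IsOpenImmersion i ∧ s ∈ Set.range i.base ∧
      ∃ e : pullback f i ≅ CohB1.ProjSpace 1 R, e.hom ≫ CohB1.ProjSpace.toSpec 1 R = pullback.snd f i := by
  obtain ⟨L, hL, h⟩ := exists_degree_one f hfib σ hσ
  obtain ⟨-, e, he, ⟨τ⟩⟩ := h s
  obtain ⟨a, ha, ⟨τa⟩⟩ := SeesawX.PnSpec.exists_iso (n := 1) (R := S.residueField s)
  have hiy : (e.hom ≫ a.inv) ≫ pB 1 _ = f.fiberToSpecResidueField s := by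
    rw [Category.assoc, ← he]
    congr 1
    rw [Iso.inv_comp_eq]
    exact ha.symm
  let ψ : (Scheme.Modules.pullback (e.hom ≫ a.inv)).obj (Twist.twistOver 1 (Spec (S.residueField s)) 1) ≅
      (Scheme.Modules.pullback (f.fiberι s)).obj L :=
    ((Scheme.Modules.pullbackComp e.hom a.inv).app _).symm ≪≫
      (Scheme.Modules.pullback e.hom).mapIso ((Scheme.Modules.pullback a.inv).mapIso τa.symm ≪≫
        (Scheme.Modules.pullbackComp a.inv a.hom).app _ ≪≫
          (Scheme.Modules.pullbackCongr a.inv_hom_id).app _ ≪≫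
            (Scheme.Modules.pullbackId _).app _) ≪≫ τ
  obtain ⟨V, hsV, hV, e', he'⟩ := exists_nhd_projSpace f L hL (fun y => (h y).1) s
    ⟨e.hom ≫ a.inv, inferInstance, hiy, ⟨ψ.symm⟩⟩
  obtain ⟨a', ha', -⟩ := SeesawX.PnSpec.exists_iso (n := 1) (R := Γ(S, V))
  refine ⟨Γ(S, V), inferInstance, hV.fromSpec, inferInstance, hV.range_fromSpec.ge hsV, ?_⟩
  have hp : IsPullback (f ⁻¹ᵁ V).ι ((f ∣_ V) ≫ hV.isoSpec.hom) f hV.fromSpec :=
    (isPullback_morphismRestrict f V).flip.of_iso (Iso.refl _) (Iso.refl _) hV.isoSpec (Iso.refl _)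
      ((Category.comp_id _).trans (Category.id_comp _).symm) (Category.id_comp _).symm
      ((Category.comp_id _).trans (Category.id_comp _).symm)
      ((Category.comp_id _).trans (by rw [← hV.isoSpec_inv_ι, Iso.hom_inv_id_assoc]))
  haveI : IsIso (bP (n := 1) hV.isoSpec.hom) := (isPullback_bP (n := 1) hV.isoSpec.hom).isIso_fst_of_isIso
  refine ⟨hp.isoPullback.symm ≪≫ e' ≪≫ asIso (bP (n := 1) hV.isoSpec.hom) ≪≫ a', ?_⟩
  have hb : bP (n := 1) hV.isoSpec.hom ≫ a'.hom ≫ CohB1.ProjSpace.toSpec 1 _ = pB 1 _ ≫ hV.isoSpec.hom := by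
    rw [ha']
    exact pullback.lift_snd _ _ _
  simp only [Iso.trans_hom, Iso.symm_hom, asIso_hom, Category.assoc, hb]
  rw [← Category.assoc e'.hom, he', Iso.inv_comp_eq]
  exact hp.isoPullback_hom_snd.symm

end Groth.Agent.Genus0Family
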