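import Groth.Agent.PicTangent.AbelSec
import Groth.Agent.CurveEmbed.Line
import Groth.Agent.CurveEmbed.Points
import Groth.Agent.CurveEmbed.Main
import Groth.Agent.Pi1X.GeomConnFF

/-!
# Fibres of families of genus zero curves
-/

set_option autoImplicit false
set_option linter.style.haveILetI false
set_option linter.unusedSectionVars false
set_option backward.isDefEq.respectTransparency false
set_option backward.isDefEq.respectTransparency.types false
set_option maxHeartbeats 1000000

universe u

open CategoryTheory CategoryTheory.Limits AlgebraicGeometry TopologicalSpace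

noncomputable section

namespace Groth.Agent.Genus0Family

open Groth.Agent Groth.Agent.H23 Groth.Agent.PicTangent.JacDiff
open scoped Groth.Agent.H23.PicMul

attribute [local instance] PicMul.clMonoid Curv2.resAlgebra

section Curve

variable {X : Scheme.{u}} (k : Type u) [Field k] [X.Over (Spec (CommRingCat.of k))] [IsIntegral X]
  [IsProper (X ↘ Spec (CommRingCat.of k))]

include k in
/-- The inverse of the ideal of a rational point has degree one. -/
theorem deg_eq_one_of_section (hdim : topologicalKrullDim X = 1)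
    (s : Spec (CommRingCat.of k) ⟶ X) (hs : s ≫ X ↘ Spec (CommRingCat.of k) = 𝟙 _)
    (hI : PicF.IsInvertible (ClSub.idealMod s.ker)) {J : X.Modules} (hJ : PicF.IsInvertible J)
    (h : PicF.cl (ClSub.idealMod s.ker) * PicF.cl J = 1) : Curv2.deg k X J 1 = 1 := by
  obtain ⟨hx, hker, hsurj⟩ := CurveEmbed.section_point k s hs
  rw [hker] at hI h
  rw [← PicMul.cl_tensor, PicMul.one_def] at h
  obtain ⟨e⟩ := PicMul.cl_eq_iff.1 h
  have h1 : Curv2.deg k X (ClSub.idealMod (CurvePoint.ptIdeal _ hx)) 1 + Curv2.deg k X J 1 = 0 :=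
    (CurveRR.deg_tensor k hdim hI hJ).symm.trans
      ((CurveRR.deg_congr k e 1).trans (CurveDeg.deg_structureModule k))
  have h2 := CurveEmbed.deg_point k hx
  have hres : Module.finrank k (X.residueField (s (IsLocalRing.closedPoint k))) = 1 := by
    have hb : Function.Bijective (Algebra.linearMap k (X.residueField (s (IsLocalRing.closedPoint k)))) :=
      ⟨(Curv2.resMap k X _).injective, hsurj⟩
    rw [← (LinearEquiv.ofBijective _ hb).finrank_eq, Module.finrank_self]
  rw [hres] at h2
  change Curv2.deg k X (ClSub.idealMod (CurvePoint.ptIdeal _ hx)) 1 = _ at h2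
  omega

include k in
/-- A module of degree one on a curve with `H¹(O) = 0` embeds it as the line. -/
theorem exists_line (hdim : topologicalKrullDim X = 1)
    (h1 : Subsingleton (Coh.HH X (Coh.structureModule X) 1)) {L : X.Modules} (hL : PicF.IsInvertible L)
    (hdeg : Curv2.deg k X L 1 = 1) :
    Subsingleton (Coh.HH X L 1) ∧ ∃ e : X ≅ CohB1.ProjSpace 1 k,
      e.hom ≫ CohB1.ProjSpace.toSpec 1 k = X ↘ Spec (CommRingCat.of k) ∧
        Nonempty ((Scheme.Modules.pullback e.hom).obj (Twist.twistProjSpace 1 k 1) ≅ L) := by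
  haveI := CurveCohLib.isNoetherian_of_proper (k := k) (X := X)
  obtain ⟨s, hs⟩ := CurveEmbed.exists_ne_zero k hdim h1 hL (by omega)
  refine ⟨CurveEmbed.subsingleton_h1_P k hdim hL hs h1 0, ?_⟩
  have hr := CurveEmbed.h0_eq k hdim h1 hL (by omega)
  rw [CurveEmbed.h0_structure_eq_one k hdim h1 hL hdeg, hdeg] at hr
  obtain ⟨i, hi, hie, hiL⟩ := CurveEmbed.exists_embedding k hdim h1 hL (by omega) (N := 1) (by omega)
  haveI := hi
  haveI := CurveEmbed.isIso_of_closedImmersion_line k hdim i
  exact ⟨asIso i, hie, hiL⟩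

end Curve

section Family

variable {X S : Scheme.{u}} (f : X ⟶ S) [Smooth f] [IsProper f]
  (hfib : ∀ (K : Type u) [Field K] [IsAlgClosed K] (x : Spec (CommRingCat.of K) ⟶ S),
    IsIntegral (pullback f x) ∧ topologicalKrullDim ↥(pullback f x) = 1 ∧
      @Curv2.genus K _ (pullback f x) ⟨pullback.snd f x⟩ = 0)

include hfib in
theorem geometricallyConnected : GeometricallyConnected f :=
  Pi1X.geometricallyConnected_of_isAlgClosed f fun Ω _ _ x => by
    haveI := (hfib Ω x).1
    infer_instance

/-- A point lies under a geometric point. -/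
theorem exists_geometric_point (s : S) : ∃ (Ω : Type u) (_ : Field Ω) (_ : IsAlgClosed Ω)
    (b : Spec (CommRingCat.of Ω) ⟶ S), b (IsLocalRing.closedPoint Ω : PrimeSpectrum Ω) = s :=
  ⟨AlgebraicClosure (S.residueField s), inferInstance, inferInstance,
    Spec.map (CommRingCat.ofHom (algebraMap (S.residueField s) (AlgebraicClosure (S.residueField s)))) ≫
      S.fromSpecResidueField s, by rw [Scheme.Hom.comp_apply]; exact Scheme.fromSpecResidueField_apply _ _⟩

include hfib in
theorem dim_fibre (s : S) : topologicalKrullDim ↥(f.fiber s) = 1 := by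
  obtain ⟨Ω, _, _, b, hb⟩ := exists_geometric_point s
  have h := FlatMisc.ApproxDim.fibre_dim_baseChange (IsPullback.of_hasPullback f b)
    (IsLocalRing.closedPoint Ω : PrimeSpectrum Ω)
  rw [hb] at h
  rw [← h, ← (hfib Ω b).2.1]
  haveI : Subsingleton ↥(Spec (CommRingCat.of Ω)) := inferInstanceAs (Subsingleton (PrimeSpectrum Ω))
  let g := pullback.snd f b
  have hsurj : Function.Surjective (g.fiberι (IsLocalRing.closedPoint Ω : PrimeSpectrum Ω)) := fun x =>
    (g.range_fiberι _).superset (show x ∈ g ⁻¹' {_} from Subsingleton.elim _ _)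
  exact ((g.fiberι _).isEmbedding.toHomeomorphOfSurjective hsurj).isHomeomorph.topologicalKrullDim_eq

include hfib in
theorem subsingleton_h1_fibre (s : S) :
    Subsingleton (Coh.HH (f.fiber s) (Coh.structureModule (f.fiber s)) 1) := by
  haveI := geometricallyConnected f hfib
  haveI := PicTangent.JacDeg.smoothOfRelativeDimension_one f (dim_fibre f hfib)
  obtain ⟨Ω, _, _, b, hb⟩ := exists_geometric_point s
  have hg : CohIII.fiberRank f (Coh.structureModule X) 1 s = 0 := by
    have h := PicTangent.AbelSec.genus_fibre f b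
    rw [hb] at h
    exact h.symm.trans (hfib Ω b).2.2
  let E := S.residueField s
  letI : (f.fiber s).Over (Spec (CommRingCat.of E)) := ⟨f.fiberToSpecResidueField s⟩
  haveI : IsProper (f.fiber s ↘ Spec (CommRingCat.of E)) :=
    inferInstanceAs (IsProper (pullback.snd f (S.fromSpecResidueField s)))
  obtain ⟨e⟩ := PicClLib.nonempty_pullback_structureModule (f.fiberι s)
  haveI := CurveCohLib.isNoetherian_of_proper (k := E) (X := f.fiber s)
  haveI := CurveCohLib.finite_HH (k := E) (QCoh.isCoh_structureModule' (X := f.fiber s)) 1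
  have h0 : Module.finrank E (Coh.HH (f.fiber s) (Coh.structureModule (f.fiber s)) 1) = 0 :=
    (CurveCohLib.hhEquiv (k := E) e 1).finrank_eq.symm.trans hg
  exact Module.finrank_zero_iff.1 h0

include hfib in
/-- A family of genus zero curves with a section has an invertible module which is the line bundle of a point
on every fibre. -/
theorem exists_degree_one (σ : S ⟶ X) (hσ : σ ≫ f = 𝟙 S) :
    ∃ L : X.Modules, PicF.IsInvertible L ∧ ∀ s : S,
      Subsingleton (CohIII.fiberH f L s 1) ∧ ∃ e : f.fiber s ≅ CohB1.ProjSpace 1 (S.residueField s),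
        e.hom ≫ CohB1.ProjSpace.toSpec 1 (S.residueField s) = f.fiberToSpecResidueField s ∧
          Nonempty ((Scheme.Modules.pullback e.hom).obj (Twist.twistProjSpace 1 (S.residueField s) 1) ≅
            (Scheme.Modules.pullback (f.fiberι s)).obj L) := by
  haveI := geometricallyConnected f hfib
  haveI := PicTangent.JacDeg.smoothOfRelativeDimension_one f (dim_fibre f hfib)
  haveI := PicTangent.JacDeg.geometricallyIntegral f
  let T₀ : Over S := Over.mk (𝟙 S)
  let a : T₀ ⟶ Over.mk f := Over.homMk σ hσ
  obtain ⟨J, hJc, hJ⟩ := ptInv_invertible f T₀ a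
  let p : PicF.XT f T₀ ⟶ X := pullback.fst f (𝟙 S)
  refine ⟨(Scheme.Modules.pullback (inv p)).obj J, PicClLib.isInvertible_pullback _ hJ, fun s => ?_⟩
  let E := S.residueField s
  let T : Over S := Over.mk (S.fromSpecResidueField s)
  let g : T ⟶ T₀ := Over.homMk (S.fromSpecResidueField s) (Category.comp_id _)
  letI : (f.fiber s).Over (Spec (CommRingCat.of E)) := ⟨f.fiberToSpecResidueField s⟩
  haveI : IsProper (f.fiber s ↘ Spec (CommRingCat.of E)) :=
    inferInstanceAs (IsProper (pullback.snd f (S.fromSpecResidueField s)))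
  haveI : IsIntegral (f.fiber s) :=
    GeometricallyIntegral.geometrically_isIntegral (f := f) _ _ _ (IsPullback.of_hasPullback f (S.fromSpecResidueField s))
  have hι : f.fiberι s ≫ inv p = PicF.XTmap f g := by
    rw [IsIso.comp_inv_eq]
    exact (pullback.lift_fst _ _ _).symm
  let L' := (Scheme.Modules.pullback (f.fiberι s)).obj ((Scheme.Modules.pullback (inv p)).obj J)
  have hL'i : PicF.IsInvertible L' := PicClLib.isInvertible_pullback _ (PicClLib.isInvertible_pullback _ hJ)
  have hL' : PicF.cl L' = ptInv f T (g ≫ a) := by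
    show PicF.pullCl (f.fiberι s) (PicF.pullCl (inv p) (PicF.cl J)) = _
    rw [PicClLib.pullCl_comp, hι, hJc, pull_ptInv]
  have hd : topologicalKrullDim ↥(f.fiber s) = 1 := dim_fibre f hfib s
  let σs : Spec (CommRingCat.of E) ⟶ f.fiber s :=
    pullback.lift (g ≫ a).left (𝟙 _) (by rw [Category.id_comp]; exact Over.w (g ≫ a))
  have h := pt_mul_ptInv f T (g ≫ a)
  rw [← hL'] at h
  have hdeg := deg_eq_one_of_section E hd σs (pullback.lift_snd _ _ _)
    (H26.IdealCl.isInvertible_idealMod (isEffCartier_sec f T (g ≫ a))) hL'i h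
  exact exists_line E hd (subsingleton_h1_fibre f hfib s) hL'i hdeg

end Family

end Groth.Agent.Genus0Family
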